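/-
Quotient of a sheaf of groups by a subgroup sheaf: action, group structure.
-/
import Groth.Agent.EquivRelSh.Basic
import Mathlib

set_option backward.isDefEq.respectTransparency false
set_option backward.isDefEq.respectTransparency.types false
set_option linter.style.haveILetI false
set_option autoImplicit false

universe w v₁ u₁ v u

open CategoryTheory Category Limits MonoidalCategory CartesianMonoidalCategory SemiCartesianMonoidalCategory MonObj

namespace Groth.Agent.GrpQuotSh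

/-- The exactness properties of a category of sheaves of sets that are used here. -/
structure Exactness (D : Type u) [Category.{v} D] : Prop where
  equivRel : ∀ {R X : D} (p₁ p₂ : R ⟶ X) [IsEquivalenceRelation p₁ p₂], IsUniversallyEffectiveEquivalenceRelation p₁ p₂
  epi_pullback : ∀ {P B A Q : D} {fst : P ⟶ B} {snd : P ⟶ A} {f : B ⟶ Q} {g : A ⟶ Q}
    (_ : IsPullback fst snd f g) [Epi f], Epi snd
  effectiveEpi : ∀ {X Y : D} (p : X ⟶ Y) [Epi p], EffectiveEpi p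

theorem exactness_sheaf {C : Type u₁} [Category.{v₁} C] (J : GrothendieckTopology C) [HasSheafify J (Type w)] :
    Exactness (Sheaf J (Type w)) where
  equivRel p₁ p₂ _ := Groth.Agent.EquivRelSh.universallyEffective_sheaf J p₁ p₂
  epi_pullback h _ := Groth.Agent.EquivRelSh.epi_of_isPullback_sheaf J h
  effectiveEpi p _ := by
    rw [← isRegularEpi_iff_effectiveEpi]
    exact IsRegularEpiCategory.regularEpiOfEpi p

variable {D : Type u} [Category.{v} D] [CartesianMonoidalCategory D] [HasPullbacks D]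
  [HasCoequalizers D] (hD : Exactness D)
  {H G : D} [GrpObj H] [GrpObj G] (u : H ⟶ G)

/-- The action map. -/
noncomputable abbrev act₂ : G ⊗ H ⟶ G := (G ◁ u) ≫ (MonObj.mul : G ⊗ G ⟶ G)

theorem act₂_eq : act₂ u = fst G H * (snd G H ≫ u) := by
  rw [Hom.mul_def]
  change (G ◁ u) ≫ (MonObj.mul : G ⊗ G ⟶ G) = _
  congr 1
  apply CartesianMonoidalCategory.hom_ext <;> simp

theorem comp_act₂ {Y : D} (a : Y ⟶ G) (b : Y ⟶ H) : lift a b ≫ act₂ u = a * (b ≫ u) := by
  rw [act₂_eq, MonObj.comp_mul, lift_fst, lift_snd_assoc]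

/-- The quotient map. -/
noncomputable abbrev π : G ⟶ coequalizer (fst G H) (act₂ u) := coequalizer.π (fst G H) (act₂ u)

variable [Mono u] [IsMonHom u]

theorem isEquivalenceRelation : IsEquivalenceRelation (fst G H) (act₂ u) := by
  have hj : JointlyMono₂ (fst G H) (act₂ u) := ⟨fun Y f g h₁ h₂ => by
    rw [act₂_eq, MonObj.comp_mul, MonObj.comp_mul, h₁] at h₂
    have h := mul_left_cancel h₂
    rw [← Category.assoc, ← Category.assoc, cancel_mono] at h
    exact CartesianMonoidalCategory.hom_ext f g h₁ h⟩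
  refine ⟨⟨{ __ := hj
             r := lift (𝟙 G) 1
             reflexivity₁ := lift_fst _ _
             reflexivity₂ := by rw [comp_act₂, MonObj.one_comp, _root_.mul_one]
             s := lift (act₂ u) (snd G H)⁻¹
             symmetry₁ := lift_fst _ _
             symmetry₂ := ?_
             c := pullback.cone (act₂ u) (fst G H)
             isLimit := pullback.isLimit _ _
             t := lift ((pullback.cone (act₂ u) (fst G H)).fst ≫ fst G H)
               ((pullback.cone (act₂ u) (fst G H)).fst ≫ snd G H * (pullback.cone (act₂ u) (fst G H)).snd ≫ snd G H)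
             transitivity₁ := lift_fst _ _
             transitivity₂ := ?_ }⟩⟩
  · rw [comp_act₂, act₂_eq, _root_.mul_assoc, ← MonObj.mul_comp, mul_inv_cancel, MonObj.one_comp, _root_.mul_one]
  · have hc := (pullback.cone (act₂ u) (fst G H)).condition
    rw [comp_act₂, MonObj.mul_comp, ← _root_.mul_assoc]
    generalize (pullback.cone (act₂ u) (fst G H)).fst = a at hc ⊢
    generalize (pullback.cone (act₂ u) (fst G H)).snd = b at hc ⊢
    simp only [act₂_eq, MonObj.comp_mul, Category.assoc] at hc ⊢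
    rw [hc]

include hD in
/-- Sections with the same image differ by the subgroup. -/
theorem exists_of_π_eq {Y : D} {a b : Y ⟶ G} (h : a ≫ π u = b ≫ π u) :
    ∃ c : Y ⟶ H, b = a * (c ≫ u) := by
  haveI := isEquivalenceRelation u
  obtain ⟨⟨e⟩⟩ := hD.equivRel (fst G H) (act₂ u)
  have h' : a ≫ e.π = b ≫ e.π := by
    rw [← coequalizer.π_desc e.π e.isPushout.w, reassoc_of% h]
  refine ⟨e.isKernelPair.lift a b h' ≫ snd G H, ?_⟩
  have h1 := e.isKernelPair.lift_fst a b h'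
  have h2 := e.isKernelPair.lift_snd a b h'
  generalize e.isKernelPair.lift a b h' = l at h1 h2 ⊢
  rw [← h2, ← h1, act₂_eq, MonObj.comp_mul, Category.assoc]

omit [Mono u] [IsMonHom u] in
theorem π_mul {Y : D} (a : Y ⟶ G) (c : Y ⟶ H) : (a * (c ≫ u)) ≫ π u = a ≫ π u := by
  rw [← comp_act₂, Category.assoc]
  change lift a c ≫ act₂ u ≫ coequalizer.π (fst G H) (act₂ u) = _
  rw [← coequalizer.condition, lift_fst_assoc]

include hD in
omit [Mono u] [IsMonHom u] in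
theorem epi_whiskerLeft {X Y : D} (A : D) (p : X ⟶ Y) [Epi p] : Epi (A ◁ p) := by
  refine hD.epi_pullback (f := p) (g := snd A Y) (fst := snd A X) ?_
  refine IsPullback.of_isLimit' ⟨by simp⟩ (PullbackCone.IsLimit.mk _ (fun s => lift (s.snd ≫ fst A Y) s.fst)
    (fun s => lift_snd _ _) (fun s => ?_) (fun s m h₁ h₂ => ?_))
  · apply CartesianMonoidalCategory.hom_ext <;> simp [s.condition]
  · apply CartesianMonoidalCategory.hom_ext
    · have := h₂ =≫ fst A Y
      simpa using this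
    · simpa using h₁

include hD in
omit [Mono u] [IsMonHom u] in
theorem epi_whiskerRight {X Y : D} (A : D) (p : X ⟶ Y) [Epi p] : Epi (p ▷ A) := by
  refine hD.epi_pullback (f := p) (g := fst Y A) (fst := fst X A) ?_
  refine IsPullback.of_isLimit' ⟨by simp⟩ (PullbackCone.IsLimit.mk _ (fun s => lift s.fst (s.snd ≫ snd Y A))
    (fun s => lift_fst _ _) (fun s => ?_) (fun s m h₁ h₂ => ?_))
  · apply CartesianMonoidalCategory.hom_ext <;> simp [s.condition]
  · apply CartesianMonoidalCategory.hom_ext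
    · simpa using h₁
    · have := h₂ =≫ snd Y A
      simpa using this

include hD in
theorem existsUnique_act : ∃! a : G ⊗ coequalizer (fst G H) (act₂ u) ⟶ coequalizer (fst G H) (act₂ u),
    ((MonObj.one : 𝟙_ _ ⟶ G) ▷ coequalizer (fst G H) (act₂ u)) ≫ a = (λ_ _).hom ∧
    ((MonObj.mul : G ⊗ G ⟶ G) ▷ coequalizer (fst G H) (act₂ u)) ≫ a = (α_ G G _).hom ≫ (G ◁ a) ≫ a ∧
    (MonObj.mul : G ⊗ G ⟶ G) ≫ π u = (G ◁ π u) ≫ a := by
  haveI := epi_whiskerLeft hD G (π u)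
  haveI := hD.effectiveEpi (G ◁ π u)
  have hw : ∀ {Z : D} (g₁ g₂ : Z ⟶ G ⊗ G), g₁ ≫ (G ◁ π u) = g₂ ≫ (G ◁ π u) →
      g₁ ≫ (MonObj.mul : G ⊗ G ⟶ G) ≫ π u = g₂ ≫ (MonObj.mul : G ⊗ G ⟶ G) ≫ π u := by
    intro Z g₁ g₂ h
    have h1 : g₁ ≫ fst G G = g₂ ≫ fst G G := by
      have := h =≫ fst _ _
      simpa using this
    obtain ⟨c, hc⟩ := exists_of_π_eq hD u (a := g₁ ≫ snd G G) (b := g₂ ≫ snd G G) (by
      have := h =≫ snd _ _
      simpa using this)
    have e : ∀ g : Z ⟶ G ⊗ G, g ≫ (MonObj.mul : G ⊗ G ⟶ G) = g ≫ fst G G * g ≫ snd G G := fun g => by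
      rw [mul_eq_mul, MonObj.comp_mul]
    rw [← Category.assoc, e, ← Category.assoc, e, hc, h1, ← _root_.mul_assoc, π_mul]
  let a := EffectiveEpi.desc (G ◁ π u) ((MonObj.mul : G ⊗ G ⟶ G) ≫ π u) hw
  have ha : (G ◁ π u) ≫ a = (MonObj.mul : G ⊗ G ⟶ G) ≫ π u := EffectiveEpi.fac _ _ _
  refine ⟨a, ⟨?_, ?_, ha.symm⟩, fun b hb => ?_⟩
  · haveI := epi_whiskerLeft hD (𝟙_ (D)) (π u)
    rw [← cancel_epi (𝟙_ _ ◁ π u), whisker_exchange_assoc, ha, leftUnitor_naturality, ← Category.assoc,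
      MonObj.one_mul]
  · haveI := epi_whiskerLeft hD (G ⊗ G) (π u)
    rw [← cancel_epi ((G ⊗ G) ◁ π u), whisker_exchange_assoc, ha, associator_naturality_right_assoc,
      ← MonoidalCategory.whiskerLeft_comp_assoc, ha, MonoidalCategory.whiskerLeft_comp_assoc, ha]
    rw [← Category.assoc, MonObj.mul_assoc]
    simp only [Category.assoc]
  · rw [← cancel_epi (G ◁ π u), ha, ← hb.2.2]

include hD in
theorem exists_group (hn : ∀ (Y : D) (g : Y ⟶ G) (h : Y ⟶ H), ∃ h' : Y ⟶ H, g * (h ≫ u) * g⁻¹ = h' ≫ u) :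
    ∃! str : GrpObj (coequalizer (fst G H) (act₂ u)),
      @IsMonHom (D) _ _ G (coequalizer (fst G H) (act₂ u)) _ str.toMonObj (π u) := by
  haveI : Epi (π u ▷ G) := epi_whiskerRight hD G (π u)
  haveI : Epi (coequalizer (fst G H) (act₂ u) ◁ π u) := epi_whiskerLeft hD _ (π u)
  haveI hE : Epi (π u ⊗ₘ π u) := by rw [MonoidalCategory.tensorHom_def]; infer_instance
  haveI := hD.effectiveEpi (π u ⊗ₘ π u)
  haveI := hD.effectiveEpi (π u)
  have e : ∀ {Z : D} (g : Z ⟶ G ⊗ G), g ≫ (MonObj.mul : G ⊗ G ⟶ G) = g ≫ fst G G * g ≫ snd G G :=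
    fun g => by rw [mul_eq_mul, MonObj.comp_mul]
  have hw : ∀ {Z : D} (g₁ g₂ : Z ⟶ G ⊗ G), g₁ ≫ (π u ⊗ₘ π u) = g₂ ≫ (π u ⊗ₘ π u) →
      g₁ ≫ (MonObj.mul : G ⊗ G ⟶ G) ≫ π u = g₂ ≫ (MonObj.mul : G ⊗ G ⟶ G) ≫ π u := by
    intro Z g₁ g₂ h
    obtain ⟨c, hc⟩ := exists_of_π_eq hD u (a := g₁ ≫ fst G G) (b := g₂ ≫ fst G G) (by
      have := h =≫ fst _ _
      simpa using this)
    obtain ⟨d, hd⟩ := exists_of_π_eq hD u (a := g₁ ≫ snd G G) (b := g₂ ≫ snd G G) (by
      have := h =≫ snd _ _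
      simpa using this)
    obtain ⟨c', hc'⟩ := hn Z (g₁ ≫ snd G G)⁻¹ c
    rw [← Category.assoc, e, ← Category.assoc, e, hc, hd]
    have : g₁ ≫ fst G G * (c ≫ u) * (g₁ ≫ snd G G * (d ≫ u)) =
        g₁ ≫ fst G G * g₁ ≫ snd G G * ((c' * d) ≫ u) := by
      rw [MonObj.mul_comp, ← hc']
      group
    rw [this, π_mul]
  have hwi : ∀ {Z : D} (g₁ g₂ : Z ⟶ G), g₁ ≫ π u = g₂ ≫ π u →
      g₁ ≫ (GrpObj.inv : G ⟶ G) ≫ π u = g₂ ≫ (GrpObj.inv : G ⟶ G) ≫ π u := by
    intro Z g₁ g₂ h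
    obtain ⟨c, rfl⟩ := exists_of_π_eq hD u h
    obtain ⟨c', hc'⟩ := hn Z g₁ c⁻¹
    rw [← Category.assoc, ← Category.assoc, ← Hom.inv_def, ← Hom.inv_def]
    have : (g₁ * (c ≫ u))⁻¹ = g₁⁻¹ * (c' ≫ u) := by
      rw [← hc', show c⁻¹ ≫ u = (c ≫ u)⁻¹ from eq_inv_of_mul_eq_one_left (by
        rw [← MonObj.mul_comp, inv_mul_cancel, MonObj.one_comp])]
      group
    rw [this, π_mul]
  let Q := coequalizer (fst G H) (act₂ u)
  let μQ : Q ⊗ Q ⟶ Q := EffectiveEpi.desc (π u ⊗ₘ π u) ((MonObj.mul : G ⊗ G ⟶ G) ≫ π u) hw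
  let iQ : Q ⟶ Q := EffectiveEpi.desc (π u) ((GrpObj.inv : G ⟶ G) ≫ π u) hwi
  have hμ : (π u ⊗ₘ π u) ≫ μQ = (MonObj.mul : G ⊗ G ⟶ G) ≫ π u := EffectiveEpi.fac _ _ _
  have hi : π u ≫ iQ = (GrpObj.inv : G ⟶ G) ≫ π u := EffectiveEpi.fac _ _ _
  let ηQ : 𝟙_ _ ⟶ Q := (MonObj.one : 𝟙_ _ ⟶ G) ≫ π u
  let m : MonObj Q :=
    { one := ηQ
      mul := μQ
      one_mul := by
        haveI := epi_whiskerLeft hD (𝟙_ (D)) (π u)
        rw [← cancel_epi (𝟙_ _ ◁ π u), leftUnitor_naturality]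
        rw [← Category.assoc, show (𝟙_ _ ◁ π u) ≫ ηQ ▷ Q = (MonObj.one : 𝟙_ _ ⟶ G) ▷ G ≫ (π u ⊗ₘ π u) by
          rw [whisker_exchange, MonoidalCategory.comp_whiskerRight, Category.assoc, ← MonoidalCategory.tensorHom_def]]
        rw [Category.assoc, hμ, ← Category.assoc, MonObj.one_mul]
      mul_one := by
        haveI := epi_whiskerRight hD (𝟙_ (D)) (π u)
        rw [← cancel_epi (π u ▷ 𝟙_ _), rightUnitor_naturality]
        rw [← Category.assoc, show (π u ▷ 𝟙_ _) ≫ Q ◁ ηQ = G ◁ (MonObj.one : 𝟙_ _ ⟶ G) ≫ (π u ⊗ₘ π u) by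
          rw [← whisker_exchange, MonoidalCategory.whiskerLeft_comp, Category.assoc, ← MonoidalCategory.tensorHom_def']]
        rw [Category.assoc, hμ, ← Category.assoc, MonObj.mul_one]
      mul_assoc := by
        haveI : Epi ((π u ⊗ₘ π u) ▷ G) := epi_whiskerRight hD G _
        haveI : Epi ((Q ⊗ Q) ◁ π u) := epi_whiskerLeft hD _ _
        haveI : Epi ((π u ⊗ₘ π u) ⊗ₘ π u) := by rw [MonoidalCategory.tensorHom_def]; infer_instance
        rw [← cancel_epi ((π u ⊗ₘ π u) ⊗ₘ π u)]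
        calc ((π u ⊗ₘ π u) ⊗ₘ π u) ≫ μQ ▷ Q ≫ μQ
            = ((MonObj.mul : G ⊗ G ⟶ G) ▷ G) ≫ (π u ⊗ₘ π u) ≫ μQ := by
              rw [tensorHom_comp_whiskerRight_assoc, hμ, ← whiskerRight_comp_tensorHom_assoc, hμ]
          _ = (α_ G G G).hom ≫ (G ◁ (MonObj.mul : G ⊗ G ⟶ G)) ≫ (π u ⊗ₘ π u) ≫ μQ := by
              rw [hμ, ← Category.assoc, MonObj.mul_assoc]
              simp only [Category.assoc]
          _ = ((π u ⊗ₘ π u) ⊗ₘ π u) ≫ (α_ Q Q Q).hom ≫ Q ◁ μQ ≫ μQ := by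
              rw [associator_naturality_assoc, tensorHom_comp_whiskerLeft_assoc, hμ,
                ← whiskerLeft_comp_tensorHom_assoc, hμ] }
  let str : GrpObj Q :=
    { toMonObj := m
      inv := iQ
      left_inv := by
        rw [← cancel_epi (π u), comp_lift_assoc, hi, Category.comp_id]
        change lift ((GrpObj.inv : G ⟶ G) ≫ π u) (π u) ≫ μQ = π u ≫ toUnit Q ≫ ηQ
        rw [← Category.id_comp (π u), ← lift_map_assoc, Category.id_comp, hμ, GrpObj.left_inv_assoc, ← Category.assoc (π u),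
          toUnit_unique (π u ≫ toUnit Q) (toUnit G)]
      right_inv := by
        rw [← cancel_epi (π u), comp_lift_assoc, hi, Category.comp_id]
        change lift (π u) ((GrpObj.inv : G ⟶ G) ≫ π u) ≫ μQ = π u ≫ toUnit Q ≫ ηQ
        conv_lhs => arg 1; arg 1; rw [← Category.id_comp (π u)]
        rw [← lift_map_assoc, hμ, GrpObj.right_inv_assoc, ← Category.assoc (π u),
          toUnit_unique (π u ≫ toUnit Q) (toUnit G)] }
  refine ⟨str, @IsMonHom.mk _ _ _ G Q _ str.toMonObj (π u) rfl hμ.symm, fun s hs => GrpObj.ext _ _ ?_⟩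
  have h1 : (s.toMonObj.one : 𝟙_ _ ⟶ Q) = ηQ := (@IsMonHom.one_hom _ _ _ G Q _ s.toMonObj (π u) hs).symm
  have h2 : (s.toMonObj.mul : Q ⊗ Q ⟶ Q) = μQ := by
    rw [← cancel_epi (π u ⊗ₘ π u), hμ]
    exact (@IsMonHom.mul_hom _ _ _ G Q _ s.toMonObj (π u) hs).symm
  exact MonObj.ext _ _ h2

end Groth.Agent.GrpQuotSh
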